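import Groth.Agent.RelHomLib.Main
import Groth.Agent.DualCxLib.CoindD
import Groth.Agent.DualCxLib.Regular
import Groth.Agent.DRingLib.PseudoCoherent
import Mathlib.RingTheory.PicardGroup

/-!
# `RHom(A, -)` for the quotient by an invertible ideal
-/

set_option autoImplicit false
set_option backward.isDefEq.respectTransparency false
set_option linter.style.haveILetI false
set_option maxRecDepth 4000

universe u

open CategoryTheory CategoryTheory.Limits MonoidalCategory
open scoped TensorProduct
attribute [local instance] HasDerivedCategory.standard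

noncomputable section

namespace Groth.Agent.RelHomLib

open DRingLib DCohLib DualCxLib

section HK

variable {R : Type u} [CommRing R] (N : Type u) [AddCommGroup N] [Module R N]
  (M : Type u) [AddCommGroup M] [Module R M]

/-- A module map as a map in the derived category. -/
def zMap : (M →ₗ[R] N) →ₗ[R] HK (Dual.inD R N) 0 M where
  toFun f := sMap f ≫ (shiftFunctorZero (Dual.D R) ℤ).inv.app (Dual.inD R N)
  map_add' f g := by
    show sMap (f + g) ≫ _ = _
    rw [← Preadditive.add_comp]
    exact congrArg (· ≫ _) ((DerivedCategory.singleFunctor (ModuleCat.{u} R) 0).map_add (f := ModuleCat.ofHom f)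
      (g := ModuleCat.ofHom g))
  map_smul' r f := by
    show sMap (r • f) ≫ _ = _
    rw [sMap_smul, Linear.smul_comp]
    rfl

theorem zMap_bijective : Function.Bijective (zMap (R := R) N M) := by
  refine ⟨fun f g h => ?_, fun u => ?_⟩
  · have h' := (cancel_mono ((shiftFunctorZero (Dual.D R) ℤ).inv.app (Dual.inD R N))).1
      (show sMap f ≫ _ = sMap g ≫ _ from h)
    exact congrArg ModuleCat.Hom.hom ((DerivedCategory.singleFunctor (ModuleCat.{u} R) 0).map_injective h')
  · obtain ⟨g, hg⟩ := (DerivedCategory.singleFunctor (ModuleCat.{u} R) 0).map_surjective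
      (X := ModuleCat.of R M) (Y := ModuleCat.of R N) (u ≫ (shiftFunctorZero (Dual.D R) ℤ).hom.app (Dual.inD R N))
    refine ⟨g.hom, ?_⟩
    show (DerivedCategory.singleFunctor (ModuleCat.{u} R) 0).map g ≫ _ = u
    rw [hg, Category.assoc, Iso.hom_inv_id_app]
    exact Category.comp_id u

/-- Maps between modules placed in degree zero. -/
def zEquiv : HK (Dual.inD R N) 0 M ≃ₗ[R] (M →ₗ[R] N) :=
  (LinearEquiv.ofBijective (zMap (R := R) N M) (zMap_bijective N M)).symm

variable {N M} {M' : Type u} [AddCommGroup M'] [Module R M']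

theorem zEquiv_pre (g : M →ₗ[R] M') (u : HK (Dual.inD R N) 0 M') :
    zEquiv N M (pre (Dual.inD R N) 0 g u) = zEquiv N M' u ∘ₗ g := by
  obtain ⟨f, rfl⟩ := (zEquiv N M').symm.surjective u
  rw [LinearEquiv.apply_symm_apply]
  refine (LinearEquiv.symm_apply_eq _).2 ?_
  show sMap g ≫ (sMap f ≫ _) = sMap (f ∘ₗ g) ≫ _
  rw [sMap_comp, Category.assoc]

theorem subsingleton_HK_projective [Module.Projective R M] {i : ℤ} (hi : i ≠ 0) :
    Subsingleton (HK (Dual.inD R N) i M) := by
  rcases lt_or_gt_of_ne hi with h | h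
  · exact subsingleton_HK_inD_of_neg M N h
  · obtain ⟨n, rfl⟩ : ∃ n : ℕ, i = ((n + 1 : ℕ) : ℤ) := ⟨(i - 1).toNat, by omega⟩
    rw [subsingleton_HK_inD_iff]
    haveI : Projective (ModuleCat.of R M) := (IsProjective.iff_projective M).1 inferInstance
    exact subsingleton_of_forall_eq 0 fun e => e.eq_zero_of_projective

end HK

variable (R A : Type u) [CommRing R] [CommRing A] [Algebra R A]

local notation "I" => RingHom.ker (algebraMap R A)

theorem exact_subtype_algebraMap : Function.Exact (Submodule.subtype I) (Algebra.linearMap R A) := fun x =>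
  ⟨fun h => ⟨⟨x, h⟩, rfl⟩, by rintro ⟨y, rfl⟩; exact y.2⟩

theorem isPerfect_quotient (hφ : Function.Surjective (algebraMap R A)) [Module.Invertible R I] :
    DRing.IsPerfect R ((DRing.restrictD (algebraMap R A)).obj (DTen.unit A)) := by
  obtain ⟨r⟩ := nonempty_restrictD_inD (algebraMap R A) (ModuleCat.of A A)
  rw [DRingLib.isPerfect_iff]
  refine Perf.of_iso (K := Dual.inD R A) ?_
    ((((DerivedCategory.singleFunctor (ModuleCat.{u} R) 0).mapIso (LinearEquiv.toModuleIso
      (baseModEquiv R A).symm))) ≪≫ r.symm ≪≫ (DRing.restrictD (algebraMap R A)).mapIso (unitIso A).symm)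
  refine Perf.obj₃ projClass_fProj _ (sc_shortExact (f := Submodule.subtype I) (g := Algebra.linearMap R A)
    Subtype.val_injective (exact_subtype_algebraMap R A) hφ).singleTriangle_distinguished ?_ ?_
  · exact perf_inD projClass_fProj (M := ModuleCat.of R I)
      ⟨inferInstanceAs (Module.Finite R I), inferInstanceAs (Module.Projective R I)⟩
  · exact perf_inD projClass_fProj (M := ModuleCat.of R R)
      ⟨inferInstanceAs (Module.Finite R R), inferInstanceAs (Module.Projective R R)⟩

theorem exists_equiv_HK_one (hφ : Function.Surjective (algebraMap R A)) [Module.Invertible R I] :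
    Nonempty (HK (Dual.inD R R) 1 A ≃ₗ[R] (I →ₗ[R] A)) := by
  have hex := exact_subtype_algebraMap R A
  haveI : Subsingleton (HK (Dual.inD R R) (0 + 1) R) := subsingleton_HK_projective (by norm_num)
  let d : HK (Dual.inD R R) 0 I →ₗ[R] HK (Dual.inD R R) (0 + 1) A :=
    δ (Dual.inD R R) (f := Submodule.subtype I) (g := Algebra.linearMap R A) Subtype.val_injective hex hφ 0
  let q : HK (Dual.inD R R) 0 I →ₗ[R] (I →ₗ[R] A) :=
    LinearMap.llcomp R I R A (Algebra.linearMap R A) ∘ₗ (zEquiv R I).toLinearMap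
  have hd : Function.Surjective d := fun u =>
    exists_δ_eq (Dual.inD R R) Subtype.val_injective hex hφ 0 u (Subsingleton.elim _ _)
  have hq : Function.Surjective q := fun f => by
    obtain ⟨h, hh⟩ := Module.projective_lifting_property (Algebra.linearMap R A) f hφ
    refine ⟨(zEquiv R I).symm h, ?_⟩
    show Algebra.linearMap R A ∘ₗ zEquiv R I ((zEquiv R I).symm h) = f
    rw [LinearEquiv.apply_symm_apply, hh]
  have hker : LinearMap.ker q = LinearMap.ker d := by
    ext u
    rw [LinearMap.mem_ker, LinearMap.mem_ker,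
      (exact_left (Dual.inD R R) Subtype.val_injective hex hφ 0) u]
    constructor
    · intro hu
      obtain ⟨r, hr⟩ := (Module.Invertible.toModuleEnd_bijective (R := R) (M := I)).2
        ((zEquiv R I u).codRestrict I fun x => LinearMap.congr_fun hu x)
      refine ⟨(zEquiv R R).symm (LinearMap.toSpanSingleton R R r), (zEquiv R I).injective ?_⟩
      rw [zEquiv_pre, LinearEquiv.apply_symm_apply]
      refine LinearMap.ext fun x => ?_
      have h1 : r * (x : R) = zEquiv R I u x := congrArg Subtype.val (LinearMap.congr_fun hr x)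
      show (x : R) • r = zEquiv R I u x
      rw [smul_eq_mul, mul_comm, h1]
    · rintro ⟨v, rfl⟩
      refine LinearMap.ext fun x => ?_
      show Algebra.linearMap R A (zEquiv R I (pre (Dual.inD R R) 0 (Submodule.subtype I) v) x) = 0
      rw [zEquiv_pre]
      show algebraMap R A (zEquiv R R v (x : R)) = 0
      rw [show (x : R) = (x : R) • (1 : R) by simp, map_smul, smul_eq_mul, map_mul, x.2, zero_mul]
  exact ⟨(d.quotKerEquivOfSurjective hd).symm.trans ((Submodule.quotEquivOfEq _ _ hker.symm).trans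
    (q.quotKerEquivOfSurjective hq))⟩

theorem subsingleton_HK_quotient (hφ : Function.Surjective (algebraMap R A)) [Module.Invertible R I]
    {j : ℤ} (hj : j ≠ 1) : Subsingleton (HK (Dual.inD R R) j A) := by
  have hex := exact_subtype_algebraMap R A
  obtain ⟨k, rfl⟩ : ∃ k, j = k + 1 := ⟨j - 1, by omega⟩
  refine subsingleton_of_forall_eq 0 fun u => ?_
  have hR : pre (Dual.inD R R) (k + 1) (Algebra.linearMap R A) u = 0 := by
    by_cases hk : k + 1 = 0
    · obtain rfl : k = -1 := by omega
      refine (zEquiv R R).injective ?_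
      rw [map_zero]
      refine (zEquiv_pre (Algebra.linearMap R A) u).trans ?_
      refine LinearMap.ext fun r => ?_
      show zEquiv R A u (algebraMap R A r) = 0
      set f := zEquiv R A u with hf
      clear_value f
      -- a map out of a module killed by `I` lands in the annihilator of `I`
      have hc : ∀ x ∈ (I : Ideal R), f (algebraMap R A r) * x = 0 := fun x hx => by
        rw [mul_comm, ← smul_eq_mul, ← map_smul, Algebra.smul_def, (RingHom.mem_ker).1 hx, zero_mul, map_zero]
      refine FaithfulSMul.eq_of_smul_eq_smul (α := (I : Ideal R)) fun x => Subtype.ext ?_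
      show f (algebraMap R A r) * (x : R) = 0 * (x : R)
      rw [zero_mul, hc _ x.2]
    · haveI : Subsingleton (HK (Dual.inD R R) (k + 1) R) := subsingleton_HK_projective hk
      exact Subsingleton.elim _ _
  haveI : Subsingleton (HK (Dual.inD R R) k I) := subsingleton_HK_projective (by omega)
  obtain ⟨v, rfl⟩ := exists_δ_eq (Dual.inD R R) (f := Submodule.subtype I) Subtype.val_injective hex hφ k u hR
  rw [Subsingleton.elim v 0, map_zero]

theorem nonempty_RHomRel_unit (hφ : Function.Surjective (algebraMap R A)) [Module.Invertible R I]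
    (N : Type u) [AddCommGroup N] [Module A N] (e : (A ⊗[R] I) ⊗[A] N ≃ₗ[A] A)
    [DTen.HasRHomRel (algebraMap R A)] :
    Nonempty ((DTen.RHomRel (algebraMap R A)).obj (DTen.unit R) ≅ (Dual.inD A N)⟦(-1 : ℤ)⟧) := by
  haveI : (Dual.inD R R).IsGE 0 :=
    inferInstanceAs (((DerivedCategory.singleFunctor (ModuleCat.{u} R) 0).obj _).IsGE 0)
  obtain ⟨S⟩ := exists_injRep (Dual.inD R R) 0
  let L := DRing.toD (S.coext A)
  obtain ⟨eL⟩ := S.nonempty_coindIso A (DTen.RHomRel (algebraMap R A)) (DTen.relAdj _)
  have hvan : ∀ j : ℤ, j ≠ 1 → Subsingleton (Dual.HD A L j) := fun j hj => by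
    obtain ⟨ej, -⟩ := S.exists_HK_coext A A j
    obtain ⟨ej'⟩ := nonempty_HD_equiv_rep (S.coextRep A) j
    haveI := subsingleton_HK_quotient R A hφ hj
    exact (ej'.symm.toEquiv.trans ej.toEquiv).subsingleton
  obtain ⟨e1, he1⟩ := S.exists_HK_coext A A 1
  obtain ⟨e1'⟩ := nonempty_HD_equiv_rep (S.coextRep A) 1
  obtain ⟨eQ⟩ := exists_equiv_HK_one R A hφ
  let E : Dual.HD A L 1 ≃ₗ[A] (I →ₗ[R] A) :=
    { (e1'.symm.toAddEquiv.trans e1).trans eQ.toAddEquiv with
      map_smul' := fun a x => by
        obtain ⟨r, rfl⟩ := hφ a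
        show eQ (e1 (e1'.symm (algebraMap R A r • x))) = algebraMap R A r • eQ (e1 (e1'.symm x))
        rw [map_smul, he1, map_smul, algebraMap_smul] }
  let eN : N ≃ₗ[A] (I →ₗ[R] A) :=
    (Module.Invertible.linearEquivDual ((TensorProduct.comm A N (A ⊗[R] I)).trans e)).trans
      (LinearMap.liftBaseChangeEquiv A).symm
  haveI : L.IsGE 1 := (DerivedCategory.isGE_iff _ _).2 fun j hj => ModuleCat.isZero_iff_subsingleton.2 (hvan j hj.ne)
  haveI : L.IsLE 1 := (DerivedCategory.isLE_iff _ _).2 fun j hj => ModuleCat.isZero_iff_subsingleton.2 (hvan j hj.ne')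
  obtain ⟨Y, ⟨eY⟩⟩ := DerivedCategory.exists_iso_singleFunctor_obj_of_isGE_of_isLE L 1
  let eH : Y ≃ₗ[A] Dual.HD A L 1 := ((((DerivedCategory.homologyFunctor (ModuleCat.{u} A) 1).mapIso eY).trans
    ((DerivedCategory.singleFunctorCompHomologyFunctorIso (ModuleCat.{u} A) 1).app Y)).toLinearEquiv).symm
  exact ⟨(DTen.RHomRel (algebraMap R A)).mapIso (unitIso R) ≪≫ eL.symm ≪≫ eY ≪≫
    (DerivedCategory.singleFunctor (ModuleCat.{u} A) 1).mapIso (eH.trans (E.trans eN.symm)).toModuleIso ≪≫
    (((DerivedCategory.singleFunctors (ModuleCat.{u} A)).shiftIso (-1 : ℤ) 1 0 (by norm_num)).app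
      (ModuleCat.of A N)).symm⟩

theorem nonempty_RHomRel_iso_divisor (hφ : Function.Surjective (algebraMap R A)) [Module.Invertible R I]
    (N : Type u) [AddCommGroup N] [Module A N] (e : (A ⊗[R] I) ⊗[A] N ≃ₗ[A] A)
    [DTen.HasRHomRel (algebraMap R A)] [DTen.HasLTenMix (algebraMap R A)] :
    Nonempty (DTen.RHomRel (algebraMap R A) ≅
      (Functor.curry.obj (DTen.LTenMix (algebraMap R A))).flip.obj ((Dual.inD A N)⟦(-1 : ℤ)⟧)) := by
  obtain ⟨i⟩ := nonempty_RHomRel_iso (algebraMap R A) (isPerfect_quotient R A hφ)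
  obtain ⟨j⟩ := nonempty_RHomRel_unit R A hφ N e
  exact ⟨i ≪≫ (Functor.curry.obj (DTen.LTenMix (algebraMap R A))).flip.mapIso j⟩

end Groth.Agent.RelHomLib
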