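import Groth.Agent.RelHomLib.NatCounit
import Groth.Agent.DTenLib.Mix
import Groth.Prelude.Def_DTen4

/-!
# `RHom(A, -)` for a perfect algebra is a mixed derived tensor product
-/

set_option autoImplicit false
set_option backward.isDefEq.respectTransparency false
set_option linter.style.haveILetI false
set_option maxRecDepth 4000

universe u

open CategoryTheory CategoryTheory.Limits MonoidalCategory
attribute [local instance] HasDerivedCategory.standard

noncomputable section

namespace Groth.Agent.RelHomLib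

open DRingLib DCohLib ShriekAlgLib

/-- The unit of `D(A)` is `A` in degree zero. -/
def unitIso (A : Type u) [CommRing A] : DTen.unit A ≅ Dual.inD A A := singleQZeroIso (ModuleCat.of A A)

variable {R A : Type u} [CommRing R] [CommRing A] (φ : R →+* A) [DTen.HasRHomRel φ] [DTen.HasLTenMix φ]

theorem exists_bdd_resolution (hA : DRing.IsPerfect R ((DRing.restrictD φ).obj (DTen.unit A))) :
    letI := φ.toAlgebra
    ∃ (F : DRing.Cx R) (π : F ⟶ sng 0 (resMod (P := R) A)), Bdd FProj F ∧ QuasiIso π := by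
  letI := φ.toAlgebra
  obtain ⟨r⟩ := nonempty_restrictD_inD (algebraMap R A) (ModuleCat.of A A)
  obtain ⟨F, hF, ⟨eF⟩⟩ := ((DRingLib.isPerfect_iff _).1 hA).of_iso ((DRing.restrictD φ).mapIso (unitIso A) ≪≫ r)
  haveI := hF.isKProjective projClass_fProj
  obtain ⟨π, hπQ⟩ := Q_map_surjective F (sng 0 (resMod (P := R) A))
    (eF ≪≫ (singleQZeroIso (resMod (P := R) A)).symm).hom
  haveI : IsIso (DerivedCategory.Q.map π) := hπQ ▸ inferInstance
  exact ⟨F, π, hF, (DerivedCategory.isIso_Q_map_iff_quasiIso (φ := π)).1 inferInstance⟩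

variable (W : DRing.Cx A)

/-- The K-flat model of `K ↦ K ⊗^L W`. -/
abbrev model : DRing.Cx R ⥤ Dual.D A :=
  ((DTenLib.resA R).prod' ((Functor.const _).obj W)) ⋙ DTen.mix₂ φ

omit [DTen.HasRHomRel φ] [DTen.HasLTenMix φ] in
theorem mixT_map_eq {G G' : DRing.Cx R} (f : G ⟶ G') :
    (DTen.mixT φ).map (Prod.mkHom f (𝟙 W)) = (DTen.extCx φ).map f ▷ W := by
  simp [DTen.mixT]

/-- `RHom(A, -)` is computed by the model of a K-flat complex representing `RHom(A, R)`. -/
theorem exists_iso_model_RHomRel (hA : DRing.IsPerfect R ((DRing.restrictD φ).obj (DTen.unit A)))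
    (hW : IsCoind φ (Dual.inD R R) (DRing.toD W)) :
    Nonempty (model φ W ≅ DerivedCategory.Q ⋙ DTen.RHomRel φ) := by
  letI := φ.toAlgebra
  obtain ⟨F, π, hF, hπ⟩ := exists_bdd_resolution φ hA
  obtain ⟨ev, hnat, hbij⟩ := exists_natural_counit π hF hπ (W := W) hW
  let adj := DTen.relAdj φ
  let G : DRing.Cx R → DRing.Cx R := fun K => (DTenLib.resA R).obj K
  let c : ∀ K, IsIso (DerivedCategory.Q.map ((DTenLib.resAπ R).app K)) := fun K =>
    DTenLib.isIso_Q_of_quasiIso _ (DTenLib.quasiIso_resAπ K)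
  let θ : ∀ K : DRing.Cx R, (model φ W).obj K ⟶ (DTen.RHomRel φ).obj (DerivedCategory.Q.obj K) := fun K =>
    adj.homEquiv _ _ (ev (G K) (DTenLib.isKFlat_resA K) ≫ DerivedCategory.Q.map ((DTenLib.resAπ R).app K))
  have hθ : ∀ K (X : Dual.D A), Function.Bijective fun g : X ⟶ (model φ W).obj K => g ≫ θ K := by
    intro K X
    haveI := c K
    have h1 := ((asIso (DerivedCategory.Q.map ((DTenLib.resAπ R).app K))).homToEquiv
      (Z := (DRing.restrictD φ).obj X)).bijective
    convert (adj.homEquiv X _).bijective.comp (h1.comp (hbij (G K) (DTenLib.isKFlat_resA K) X)) using 1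
    funext g
    exact (adj.homEquiv_naturality_left g _).symm.trans (congrArg _ (Category.assoc _ _ _).symm)
  haveI : ∀ K, IsIso (θ K) := fun K => by
    obtain ⟨s, hs⟩ := (hθ K ((DTen.RHomRel φ).obj (DerivedCategory.Q.obj K))).2 (𝟙 _)
    dsimp only at hs
    exact ⟨s, (hθ K _).1 (by
      show (θ K ≫ s) ≫ θ K = 𝟙 _ ≫ θ K
      rw [Category.assoc, hs, Category.comp_id, Category.id_comp]), hs⟩
  refine ⟨NatIso.ofComponents (fun K => asIso (θ K)) fun {K K'} f => ?_⟩
  show (model φ W).map f ≫ adj.homEquiv _ _ _ = adj.homEquiv _ _ _ ≫ (DTen.RHomRel φ).map (DerivedCategory.Q.map f)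
  rw [← adj.homEquiv_naturality_left, ← adj.homEquiv_naturality_right]
  refine congrArg _ ?_
  have hm : (model φ W).map f = DerivedCategory.Q.map ((extC R A).map ((DTenLib.resA R).map f) ▷ W) :=
    congrArg DerivedCategory.Q.map (mixT_map_eq φ W ((DTenLib.resA R).map f))
  rw [hm, ← Category.assoc]
  erw [hnat (G K) (G K') (DTenLib.isKFlat_resA K) (DTenLib.isKFlat_resA K') ((DTenLib.resA R).map f)]
  simp only [Category.assoc, ← Functor.map_comp]
  exact congrArg (_ ≫ DerivedCategory.Q.map ·) ((DTenLib.resAπ R).naturality f)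

/-- The model computes the mixed derived tensor product with `W`. -/
theorem exists_iso_model_LTenMix (hW : DRing.IsKFlat A W) (M : Dual.D A) (e : DRing.toD W ≅ M) :
    Nonempty (model φ W ≅ DerivedCategory.Q ⋙ (Functor.curry.obj (DTen.LTenMix φ)).flip.obj M) := by
  let a : ∀ K, (DTen.LTenMix φ).obj ((DTen.QMix R A).obj ((DTenLib.resA R).obj K, W)) ≅ (model φ W).obj K :=
    fun K => @asIso _ _ _ _ ((DTen.εMix φ).app ((DTenLib.resA R).obj K, W))
      (DTenLib.isIso_εMix φ _ W (DTenLib.isKFlat_resA K) hW)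
  haveI : ∀ K, IsIso (DerivedCategory.Q.map ((DTenLib.resAπ R).app K)) := fun K =>
    DTenLib.isIso_Q_of_quasiIso _ (DTenLib.quasiIso_resAπ K)
  refine ⟨Iso.symm ?_⟩
  refine NatIso.ofComponents (fun K => (DTen.LTenMix φ).mapIso
    ((asIso (DerivedCategory.Q.map ((DTenLib.resAπ R).app K))).prod e).symm ≪≫ a K) fun {K K'} f => ?_
  show (DTen.LTenMix φ).map (Prod.mkHom (DerivedCategory.Q.map f) (𝟙 M)) ≫ (DTen.LTenMix φ).map
      (Prod.mkHom (inv (DerivedCategory.Q.map ((DTenLib.resAπ R).app K'))) e.inv) ≫ (a K').hom =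
    ((DTen.LTenMix φ).map (Prod.mkHom (inv (DerivedCategory.Q.map ((DTenLib.resAπ R).app K))) e.inv) ≫ (a K).hom) ≫
      (model φ W).map f
  rw [Category.assoc]
  have hn := (DTen.εMix φ).naturality
    (Prod.mkHom ((DTenLib.resA R).map f) (𝟙 W) : ((DTenLib.resA R).obj K, W) ⟶ ((DTenLib.resA R).obj K', W))
  have hn' : (DTen.LTenMix φ).map (Prod.mkHom (DerivedCategory.Q.map ((DTenLib.resA R).map f)) (DerivedCategory.Q.map (𝟙 W))) ≫
      (a K').hom = (a K).hom ≫ (model φ W).map f := hn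
  rw [← hn', ← Category.assoc, ← Category.assoc, ← Functor.map_comp, ← Functor.map_comp]
  congr 2
  refine Prod.ext ?_ ?_
  · show DerivedCategory.Q.map f ≫ inv (DerivedCategory.Q.map ((DTenLib.resAπ R).app K')) =
      inv (DerivedCategory.Q.map ((DTenLib.resAπ R).app K)) ≫ DerivedCategory.Q.map ((DTenLib.resA R).map f)
    rw [IsIso.comp_inv_eq, Category.assoc, IsIso.eq_inv_comp, ← Functor.map_comp, ← Functor.map_comp]
    exact congrArg DerivedCategory.Q.map ((DTenLib.resAπ R).naturality f).symm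
  · show 𝟙 M ≫ e.inv = e.inv ≫ DerivedCategory.Q.map (𝟙 W)
    simp

theorem nonempty_RHomRel_iso (hA : DRing.IsPerfect R ((DRing.restrictD φ).obj (DTen.unit A))) :
    Nonempty (DTen.RHomRel φ ≅
      (Functor.curry.obj (DTen.LTenMix φ)).flip.obj ((DTen.RHomRel φ).obj (DTen.unit R))) := by
  let M := (DTen.RHomRel φ).obj (DTen.unit R)
  let W := DTenLib.repr₀ M
  let e : DRing.toD W ≅ M := DTenLib.reprIso₀ M
  obtain ⟨i1⟩ := exists_iso_model_RHomRel φ W hA ((isCoind_of_adj (DTen.relAdj φ) _).of_iso (unitIso R) e.symm)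
  obtain ⟨i2⟩ := exists_iso_model_LTenMix φ W (DTenLib.isKFlat_repr₀ M) M e
  letI : Localization.Lifting DerivedCategory.Q (HomologicalComplex.quasiIso (ModuleCat.{u} R) (ComplexShape.up ℤ))
      (DerivedCategory.Q ⋙ DTen.RHomRel φ) (DTen.RHomRel φ) := ⟨Iso.refl _⟩
  letI : Localization.Lifting DerivedCategory.Q (HomologicalComplex.quasiIso (ModuleCat.{u} R) (ComplexShape.up ℤ))
      (DerivedCategory.Q ⋙ (Functor.curry.obj (DTen.LTenMix φ)).flip.obj M)
      ((Functor.curry.obj (DTen.LTenMix φ)).flip.obj M) := ⟨Iso.refl _⟩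
  exact ⟨Localization.liftNatIso DerivedCategory.Q (HomologicalComplex.quasiIso (ModuleCat.{u} R) (ComplexShape.up ℤ))
    _ _ _ _ (i1.symm ≪≫ i2)⟩

end Groth.Agent.RelHomLib
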