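import Groth.Agent.ShriekAlgLib.Projection

/-!
# A natural evaluation map for coinduced complexes tensored with K-flat complexes
-/

set_option autoImplicit false
set_option backward.isDefEq.respectTransparency false
set_option linter.style.haveILetI false
set_option maxRecDepth 4000

universe u

open CategoryTheory CategoryTheory.Limits MonoidalCategory CochainComplex CochainComplex.HomComplex
  HomologicalComplex
open scoped TensorProduct ChangeOfRings
attribute [local instance] HasDerivedCategory.standard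

noncomputable section

namespace Groth.Agent.RelHomLib

open DRingLib DCohLib ShriekAlgLib

theorem bijective_coε {A B : Type u} [CommRing A] [CommRing B] (f : A →+* B) (E : DRing.Cx A) [hE : E.IsKInjective]
    (X : Dual.D B) :
    Function.Bijective fun g : X ⟶ DRing.toD ((coCx f).obj E) => (DRing.restrictD f).map g ≫
      ((DTen.resFactors f).hom.app ((coCx f).obj E) ≫ DerivedCategory.Q.map (coε f E)) := by
  haveI := isKInjective_coCx f E
  haveI : (ModuleCat.coextendScalars.{u, u, u} f).Additive :=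
    (ModuleCat.restrictCoextendScalarsAdj f).right_adjoint_additive
  let F := DRing.restrictD f
  let ε : F.obj (DRing.toD ((coCx f).obj E)) ⟶ DRing.toD E :=
    (DTen.resFactors f).hom.app ((coCx f).obj E) ≫ DerivedCategory.Q.map (coε f E)
  show Function.Bijective fun g : X ⟶ DRing.toD ((coCx f).obj E) => F.map g ≫ ε
  have hmap : ∀ {P : DRing.Cx B} (g : P ⟶ (coCx f).obj E), F.map (DerivedCategory.Q.map g) ≫ ε =
      (DTen.resFactors f).hom.app P ≫ DerivedCategory.Q.map ((DTen.resCx f).map g ≫ coε f E) := fun g => by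
    rw [Functor.map_comp]
    exact (DTen.resFactors f).hom.naturality_assoc g _
  let P := DerivedCategory.Q.objPreimage X
  let e : DRing.toD P ≅ X := DerivedCategory.Q.objObjPreimageIso X
  suffices h : Function.Bijective fun g : DRing.toD P ⟶ DRing.toD ((coCx f).obj E) => F.map g ≫ ε by
    convert ((F.mapIso e).homFromEquiv (Z := DRing.toD E)).bijective.comp
      (h.comp (e.symm.homFromEquiv (Z := DRing.toD ((coCx f).obj E))).bijective) using 1
    funext g
    show F.map g ≫ ε = F.map e.inv ≫ F.map (e.hom ≫ g) ≫ ε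
    rw [← Functor.map_comp_assoc, Iso.inv_hom_id_assoc]
  let r := (DTen.resFactors f).app P
  refine ⟨fun g g' hgg => ?_, fun w => ?_⟩
  · obtain ⟨g, rfl⟩ := (CochainComplex.IsKInjective.Qh_map_bijective
      ((HomotopyCategory.quotient (ModuleCat.{u} B) (ComplexShape.up ℤ)).obj P) ((coCx f).obj E)).2 g
    obtain ⟨g, rfl⟩ := (HomotopyCategory.quotient _ _).map_surjective g
    obtain ⟨g', rfl⟩ := (CochainComplex.IsKInjective.Qh_map_bijective
      ((HomotopyCategory.quotient (ModuleCat.{u} B) (ComplexShape.up ℤ)).obj P) ((coCx f).obj E)).2 g'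
    obtain ⟨g', rfl⟩ := (HomotopyCategory.quotient _ _).map_surjective g'
    have h1 : DerivedCategory.Q.map ((DTen.resCx f).map g ≫ coε f E) =
        DerivedCategory.Q.map ((DTen.resCx f).map g' ≫ coε f E) :=
      (cancel_epi r.hom).1 ((hmap g).symm.trans (hgg.trans (hmap g')))
    have h2 := (CochainComplex.IsKInjective.Qh_map_bijective
      ((HomotopyCategory.quotient (ModuleCat.{u} A) (ComplexShape.up ℤ)).obj ((DTen.resCx f).obj P)) E).1
        (a₁ := (HomotopyCategory.quotient _ _).map _) (a₂ := (HomotopyCategory.quotient _ _).map _) h1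
    have H := ((ModuleCat.coextendScalars.{u, u, u} f).mapHomotopy
      (HomotopyCategory.homotopyOfEq _ _ h2)).compLeft (coη f P)
    exact congrArg DerivedCategory.Qh.map (HomotopyCategory.eq_of_homotopy g g'
      ((Homotopy.ofEq (coε_coη f g).symm).trans (H.trans (Homotopy.ofEq (coε_coη f g')))))
  · obtain ⟨h, hh⟩ := (CochainComplex.IsKInjective.Qh_map_bijective
      ((HomotopyCategory.quotient (ModuleCat.{u} A) (ComplexShape.up ℤ)).obj ((DTen.resCx f).obj P)) E).2
        (r.inv ≫ w)
    obtain ⟨h, rfl⟩ := (HomotopyCategory.quotient _ _).map_surjective h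
    refine ⟨DerivedCategory.Q.map (coη f P ≫ (coCx f).map h), (hmap _).trans ?_⟩
    rw [coη_coε, show DerivedCategory.Q.map h = r.inv ≫ w from hh]
    exact r.hom_inv_id_assoc w


variable {P A : Type u} [CommRing P] [CommRing A] [Algebra P A]
variable {F : DRing.Cx P} (π : F ⟶ sng 0 (resMod (P := P) A))

theorem exists_natural_counit (hF : Bdd FProj F) (hπ : QuasiIso π)
    {W : DRing.Cx A} (hW : IsCoind (algebraMap P A) (Dual.inD P P) (DRing.toD W)) :
    ∃ ev : ∀ G : DRing.Cx P, DRing.IsKFlat P G →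
      ((DRing.restrictD (algebraMap P A)).obj (DRing.toD ((extC P A).obj G ⊗ W : DRing.Cx A)) ⟶ DRing.toD G),
      (∀ (G G' : DRing.Cx P) (hG : DRing.IsKFlat P G) (hG' : DRing.IsKFlat P G') (f : G ⟶ G'),
        (DRing.restrictD (algebraMap P A)).map (DerivedCategory.Q.map ((extC P A).map f ▷ W)) ≫ ev G' hG' =
          ev G hG ≫ DerivedCategory.Q.map f) ∧
      ∀ (G : DRing.Cx P) (hG : DRing.IsKFlat P G) (X : Dual.D A), Function.Bijective
        fun g : X ⟶ DRing.toD ((extC P A).obj G ⊗ W : DRing.Cx A) =>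
          (DRing.restrictD (algebraMap P A)).map g ≫ ev G hG := by
  haveI := hF.isKProjective projClass_fProj
  obtain ⟨J⟩ := nonempty_kIRep (Dual.inD P P)
  haveI := J.kinj
  haveI := isKInjective_coCx (algebraMap P A) J.E
  obtain ⟨eW⟩ := hW.unique (isCoind_coCx (algebraMap P A) J)
  obtain ⟨φq, hφq⟩ := (CochainComplex.IsKInjective.Qh_map_bijective
    ((HomotopyCategory.quotient (ModuleCat.{u} A) (ComplexShape.up ℤ)).obj W) ((coCx (algebraMap P A)).obj J.E)).2 eW.hom
  obtain ⟨φW, rfl⟩ := (HomotopyCategory.quotient _ _).map_surjective φq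
  have hφWQ : DerivedCategory.Q.map φW = eW.hom := hφq
  have hφW : QuasiIso φW :=
    (DerivedCategory.isIso_Q_map_iff_quasiIso (φ := φW)).1 (hφWQ ▸ inferInstanceAs (IsIso eW.hom))
  let Φ := DTen.resCx (algebraMap P A)
  let ctW : Φ.obj W ⟶ J.E := Φ.map φW ≫ coε (algebraMap P A) J.E
  have hγW : QuasiIso (evalCx π ctW) := by
    rw [quasiIso_evalCx_iff π hπ, show coη (algebraMap P A) W ≫ (coCx (algebraMap P A)).map ctW = φW from coε_coη _ _]
    exact hφW
  obtain ⟨ιq, hιq⟩ := (CochainComplex.IsKInjective.Qh_map_bijective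
    ((HomotopyCategory.quotient (ModuleCat.{u} P) (ComplexShape.up ℤ)).obj (oneCx P)) J.E).2
    ((singleQZeroIso (ModuleCat.of P P)).hom ≫ J.iso.inv)
  obtain ⟨ι, rfl⟩ := (HomotopyCategory.quotient _ _).map_surjective ιq
  haveI : IsIso (DerivedCategory.Q.map ι) := by
    rw [show DerivedCategory.Q.map ι = (singleQZeroIso (ModuleCat.of P P)).hom ≫ J.iso.inv from hιq]
    infer_instance
  have hι : QuasiIso ι := (DerivedCategory.isIso_Q_map_iff_quasiIso (φ := ι)).1 inferInstance
  have hGι : ∀ G : DRing.Cx P, DRing.IsKFlat P G → IsIso (DerivedCategory.Q.map (G ◁ ι)) := fun G hG =>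
    isIso_Q_of_qis _ (quasiIso_whiskerLeft_of_isKFlat hG ι hι)
  refine ⟨fun G hG =>
    haveI := hGι G hG
    (DTen.resFactors (algebraMap P A)).hom.app ((extC P A).obj G ⊗ W : DRing.Cx A) ≫
      DerivedCategory.Q.map ((projCxIso (A := A) G W).hom ≫ (G ◁ ctW)) ≫
      inv (DerivedCategory.Q.map (G ◁ ι)) ≫ inv (DerivedCategory.Q.map (toTensorOne G)), ?_, fun G hG X => ?_⟩
  · intro G G' hG hG' f
    haveI := hGι G hG
    haveI := hGι G' hG'
    let Φ := DTen.resCx (algebraMap P A)
    have h1 : Φ.map ((extC P A).map f ▷ W) ≫ (projCxIso (A := A) G' W).hom ≫ (G' ◁ ctW) =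
        ((projCxIso (A := A) G W).hom ≫ (G ◁ ctW)) ≫ (f ▷ J.E) := by
      have hκ : (projCxIso (A := A) G W).inv ≫ Φ.map ((extC P A).map f ▷ W) =
          (f ▷ Φ.obj W) ≫ (projCxIso (A := A) G' W).inv := by
        refine HomologicalComplex.hom_ext _ _ fun n => mapBifunctor.hom_ext fun p q h =>
          ModuleCat.hom_ext (TensorProduct.ext' fun (x : G.X p) (w : W.X q) => ?_)
        show (((extC P A).map f ▷ W).f n).hom (((projCxIso (A := A) G W).inv.f n).hom (ιBil G (Φ.obj W) p q n h x w)) =
          ((projCxIso (A := A) G' W).inv.f n).hom (((f ▷ Φ.obj W).f n).hom (ιBil G (Φ.obj W) p q n h x w))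
        rw [projCxIso_inv_ιBil, whiskerRight_ιBil, whiskerRight_ιBil, projCxIso_inv_ιBil]
        rfl
      rw [Category.assoc, whisker_exchange, ← Category.assoc, ← Category.assoc ((projCxIso (A := A) G W).hom)]
      congr 1
      rw [← Iso.inv_comp_eq, ← Category.assoc, hκ, Category.assoc, Iso.inv_hom_id, Category.comp_id]
    have h2 : f ≫ toTensorOne G' = toTensorOne G ≫ (f ▷ oneCx P) :=
      HomologicalComplex.hom_ext _ _ fun n => ModuleCat.hom_ext (LinearMap.ext fun g => by
        show ιBil G' (oneCx P) n 0 n (add_zero n) ((f.f n).hom g) oneGen =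
          ((f ▷ oneCx P).f n).hom (ιBil G (oneCx P) n 0 n (add_zero n) g oneGen)
        rw [whiskerRight_ιBil])
    refine ((DTen.resFactors (algebraMap P A)).hom.naturality_assoc _ _).trans ?_
    show _ = ((DTen.resFactors (algebraMap P A)).hom.app _ ≫ _) ≫ _
    rw [Category.assoc]
    congr 1
    rw [← Category.assoc]
    show (DerivedCategory.Q.map _ ≫ DerivedCategory.Q.map _) ≫ _ = _
    rw [← Functor.map_comp, h1, Functor.map_comp]
    simp only [Category.assoc]
    congr 1
    simp only [IsIso.eq_inv_comp]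
    rw [← cancel_mono (DerivedCategory.Q.map (toTensorOne G'))]
    simp only [Category.assoc, IsIso.inv_hom_id, Category.comp_id]
    rw [← Functor.map_comp, h2, Functor.map_comp]
    congr 1
    rw [← cancel_mono (DerivedCategory.Q.map (G' ◁ ι))]
    simp only [Category.assoc, IsIso.inv_hom_id, Category.comp_id]
    rw [← Functor.map_comp, whisker_exchange, Functor.map_comp]
  haveI := hGι G hG
  obtain ⟨S⟩ := nonempty_kIRep (DRing.toD G)
  haveI := S.kinj
  haveI := isIso_Q_of_qis _ (quasiIso_whiskerLeft_of_isKFlat hG ι hι)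
  obtain ⟨gq, hgq⟩ := (CochainComplex.IsKInjective.Qh_map_bijective
    ((HomotopyCategory.quotient (ModuleCat.{u} P) (ComplexShape.up ℤ)).obj (G ⊗ J.E : DRing.Cx P)) S.E).2
    (inv (DerivedCategory.Q.map (G ◁ ι)) ≫ inv (DerivedCategory.Q.map (toTensorOne G)) ≫ S.iso.inv)
  obtain ⟨g, rfl⟩ := (HomotopyCategory.quotient _ _).map_surjective gq
  haveI : IsIso (DerivedCategory.Q.map g) := by
    rw [show DerivedCategory.Q.map g =
      inv (DerivedCategory.Q.map (G ◁ ι)) ≫ inv (DerivedCategory.Q.map (toTensorOne G)) ≫ S.iso.inv from hgq]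
    infer_instance
  have hg : QuasiIso g := (DerivedCategory.isIso_Q_map_iff_quasiIso (φ := g)).1 inferInstance
  let Y : DRing.Cx A := (extC P A).obj G ⊗ W
  let κ := projCxIso (A := A) G W
  let ct : Φ.obj Y ⟶ S.E := κ.hom ≫ (G ◁ ctW) ≫ g
  have key : κ.inv ≫ evalCx π ct = (G ◁ evalCx π ctW) ≫ tensorHomCx G F J.E ≫ DRing.homCxMap F g := by
    refine HomologicalComplex.hom_ext _ _ fun n => mapBifunctor.hom_ext fun p q h =>
      ModuleCat.hom_ext (TensorProduct.ext' fun (x : G.X p) (w : W.X q) => ?_)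
    show ((evalCx π ct).f n).hom ((κ.inv.f n).hom (ιBil G (Φ.obj W) p q n h x w)) =
      ((DRing.homCxMap F g).f n).hom (((tensorHomCx G F J.E).f n).hom
        (((G ◁ evalCx π ctW).f n).hom (ιBil G (Φ.obj W) p q n h x w)))
    rw [projCxIso_inv_ιBil, whiskerLeft_ιBil]
    refine Cochain.ext _ _ fun a b hab => ModuleCat.hom_ext (LinearMap.ext fun v => ?_)
    show ((((Cochain.ofHom π).comp (Cochain.fromSingleMk (p := 0) (q := n) (orbitMap Y n _) (zero_add n))
        (zero_add n)).comp (Cochain.ofHom ct) (add_zero n)).v a b hab).hom v =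
      ((((((tensorHomCx G F J.E).f n).hom (ιBil G (DRing.homCx F J.E) p q n h x
        (((Cochain.ofHom π).comp (Cochain.fromSingleMk (p := 0) (q := q) (orbitMap W q w) (zero_add q))
        (zero_add q)).comp (Cochain.ofHom ctW) (add_zero q)))) : Cochain F (G ⊗ J.E : DRing.Cx P) n).comp
          (Cochain.ofHom g) (add_zero n)).v a b hab).hom v
    rw [Cochain.comp_zero_cochain_v, Cochain.comp_zero_cochain_v]
    show (Cochain.ofHom ct).v b b (add_zero b) _ = (Cochain.ofHom g).v b b (add_zero b) _
    rw [Cochain.ofHom_v, Cochain.ofHom_v]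
    by_cases ha : a = 0
    · subst ha
      obtain rfl : b = n := by omega
      erw [tensorHomCx_apply G F J.E p q b h x _ 0 b q hab (zero_add q) v]
      rw [Cochain.comp_zero_cochain_v, Cochain.zero_cochain_comp_v, Cochain.zero_cochain_comp_v, Cochain.ofHom_v,
        Cochain.fromSingleMk_v, Cochain.fromSingleMk_v, Cochain.ofHom_v]
      let t : A := ((HomologicalComplex.singleObjXSelf (ComplexShape.up ℤ) 0 (resMod (P := P) A)).hom).hom
        ((π.f 0).hom v)
      show (ct.f b).hom ((t • (show Y.X b from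
          ιBil ((extC P A).obj G) W p q b h ((1 : A) ⊗ₜ[P,algebraMap P A] x : (extF P A).obj (G.X p)) w) : Y.X b)) =
        (g.f b).hom (ιBil G J.E p q b h x ((ctW.f q).hom (t • (show W.X q from w))))
      rw [← map_smul, ← projCxIso_inv_ιBil G W p q b h x (t • (show W.X q from w))]
      show (g.f b).hom (((G ◁ ctW).f b).hom ((κ.hom.f b).hom ((κ.inv.f b).hom _))) = _
      rw [show ∀ z, (κ.hom.f b).hom ((κ.inv.f b).hom z) = z from fun z =>
          congrArg (fun φ => (φ.f b).hom z) κ.inv_hom_id,
        whiskerLeft_ιBil]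
    · erw [tensorHomCx_apply G F J.E p q n h x _ a b (a + q) hab rfl v]
      rw [Cochain.comp_zero_cochain_v, Cochain.zero_cochain_comp_v, Cochain.zero_cochain_comp_v, Cochain.ofHom_v,
        Cochain.fromSingleMk_v_eq_zero _ _ _ _ _ ha, Cochain.fromSingleMk_v_eq_zero _ _ _ _ _ ha]
      simp
      exact map_zero (ct.f b).hom
  have hτ : QuasiIso (tensorHomCx G F J.E) := quasiIso_tensorHomCx hG hF ι hι
  have hev : QuasiIso (evalCx π ct) := by
    haveI := quasiIso_whiskerLeft_of_isKFlat hG _ hγW
    haveI := quasiIso_homCxMap F g hg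
    rw [← quasiIso_iff_comp_left κ.inv (evalCx π ct), key]
    infer_instance
  haveI := isIso_Q_of_qis _ ((quasiIso_evalCx_iff π hπ ct).1 hev)
  let a : DRing.toD Y ⟶ DRing.toD ((coCx (algebraMap P A)).obj S.E) :=
    DerivedCategory.Q.map (coη (algebraMap P A) Y ≫ (coCx (algebraMap P A)).map ct)
  haveI : IsIso a := inferInstanceAs
    (IsIso (DerivedCategory.Q.map (coη (algebraMap P A) Y ≫ (coCx (algebraMap P A)).map ct)))
  have hfac : (DRing.restrictD (algebraMap P A)).map a ≫ ((DTen.resFactors (algebraMap P A)).hom.app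
      ((coCx (algebraMap P A)).obj S.E) ≫ DerivedCategory.Q.map (coε (algebraMap P A) S.E)) =
      (DTen.resFactors (algebraMap P A)).hom.app Y ≫ DerivedCategory.Q.map ct := by
    refine ((DTen.resFactors (algebraMap P A)).hom.naturality_assoc _ _).trans ?_
    congr 1
    exact (DerivedCategory.Q.map_comp _ _).symm.trans (congrArg DerivedCategory.Q.map (coη_coε _ _))
  have h2 := ((asIso a).homToEquiv (Z := X)).bijective
  have h3 := (S.iso.homToEquiv (Z := (DRing.restrictD (algebraMap P A)).obj X)).bijective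
  convert h3.comp ((bijective_coε (algebraMap P A) S.E X).comp h2) using 1
  funext x
  show _ = ((DRing.restrictD (algebraMap P A)).map (x ≫ a) ≫ ((DTen.resFactors (algebraMap P A)).hom.app
    ((coCx (algebraMap P A)).obj S.E) ≫ DerivedCategory.Q.map (coε (algebraMap P A) S.E))) ≫ S.iso.hom
  rw [Functor.map_comp, Category.assoc, Category.assoc, ← Category.assoc ((DRing.restrictD (algebraMap P A)).map a),
    hfac, Category.assoc]
  congr 1
  show (DTen.resFactors (algebraMap P A)).hom.app Y ≫ _ = _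
  congr 1
  show _ = DerivedCategory.Q.map ((κ.hom ≫ (G ◁ ctW)) ≫ g) ≫ S.iso.hom
  rw [Functor.map_comp _ _ g, Category.assoc, show DerivedCategory.Q.map g =
    inv (DerivedCategory.Q.map (G ◁ ι)) ≫ inv (DerivedCategory.Q.map (toTensorOne G)) ≫ S.iso.inv from hgq]
  simp
  rfl

end Groth.Agent.RelHomLib
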